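import Groth.Agent.CurveSimple.GlobGen
import Groth.Agent.VBLib.RR
import Groth.Agent.AmpleLib.Locus

/-! Integral curves of arithmetic genus one: constants, global generation. -/

universe u
open CategoryTheory AlgebraicGeometry

set_option autoImplicit false
set_option linter.style.haveILetI false

namespace Groth.Agent.GenusZeroPts92

variable {X : Scheme.{u}} (k : Type u) [Field k] [X.Over (Spec (CommRingCat.of k))]
  [IsProper (X ↘ Spec (CommRingCat.of k))] [IsIntegral X]

/-- A curve with one-dimensional `H¹(O)` has only constant global functions. -/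
theorem finrank_h0_eq_one_of_genus_one (hg : Curv2.genus k X = 1) :
    Module.finrank k (Coh.HH X (Coh.structureModule X) 0) = 1 := by
  let g := Coh.toGlobal (X ↘ Spec (CommRingCat.of k))
  have hK : IsField Γ(X, ⊤) := isField_of_universallyClosed k (X ↘ Spec (CommRingCat.of k))
  haveI : Nontrivial (Coh.Γtop X) := (inferInstance : Nontrivial Γ(X, ⊤))
  refine VBLib.finrank_H0_structure_eq_one ⟨g.injective, fun r => ?_⟩
  have hg' : Module.finrank k (Coh.HH X (Coh.structureModule X) 1) = 1 := hg
  haveI : Module.Free k (Coh.HH X (Coh.structureModule X) 1) := Module.Free.of_divisionRing k _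
  obtain ⟨v, hv0, hv⟩ := finrank_eq_one_iff'.1 hg'
  obtain ⟨c, hc⟩ := hv (r • v)
  refine ⟨c, ?_⟩
  by_contra hne
  have h0 : (r - g c) • v = 0 := by
    rw [sub_smul, show g c • v = r • v from hc, sub_self]
  obtain ⟨b, hb⟩ : ∃ b : Coh.Γtop X, (r - g c) * b = 1 := hK.mul_inv_cancel (sub_ne_zero.2 (Ne.symm hne))
  refine hv0 ?_
  have hb' : b * (r - g c) = 1 := by
    refine Eq.trans ?_ hb
    exact mul_comm (show Γ(X, ⊤) from b) (show Γ(X, ⊤) from r - g c)
  rw [← one_smul (Coh.Γtop X) v, ← hb', mul_smul, h0, smul_zero]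

/-- Invertible modules of degree at least two on a genus one curve are globally generated. -/
theorem gg_of_genus_one (hdim : topologicalKrullDim X = 1) (hg : Curv2.genus k X = 1) {L : X.Modules}
    (hL : PicF.IsInvertible L) (hdeg : 2 ≤ Curv2.deg k X L 1) : Curv2.IsGloballyGenerated L :=
  CurveSimple.isGloballyGenerated_of_deg_ge k hdim (finrank_h0_eq_one_of_genus_one k hg) hL (by rw [hg]; exact hdeg)

theorem exists_gen_of_genus_one (hdim : topologicalKrullDim X = 1) (hg : Curv2.genus k X = 1) {L : X.Modules}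
    (hL : PicF.IsInvertible L) (hdeg : 2 ≤ Curv2.deg k X L 1) (x : X) :
    ∃ s : Coh.structureModule X ⟶ L, x ∈ CohB1.genLocus L s := by
  obtain ⟨s, hs⟩ := CurveSimple.exists_genLocus_of_deg_ge k hdim (finrank_h0_eq_one_of_genus_one k hg) hL
    (by rw [hg]; exact hdeg) x
  exact ⟨s ≫ (ProjTwist.tensOne L).hom, (AmpleLib.genLocus_comp_iso s (ProjTwist.tensOne L)).symm ▸ hs⟩

end Groth.Agent.GenusZeroPts92
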