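import Groth.Prelude.Def_Curv2
import Groth.Prelude.Def_EGA4b
import Groth.Agent.S2618
import Groth.Agent.CurveSimple.Degree
import Groth.Agent.EulerChar.CurvePoint
import Groth.Agent.EulerChar.AmpleCurve
import Groth.Agent.AbSch51.InvSection
import Groth.Agent.HilbPolyX.Section
import Groth.Agent.LiftLib.ClosedFibre
import Groth.Agent.CurveSimple.GlobGen

/-! Genus zero integral curves: regular points, degrees and sections avoiding finite sets. -/

universe u
open CategoryTheory CategoryTheory.Limits AlgebraicGeometry TopologicalSpace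
open Groth.Agent.QCoh Groth.Agent.Props.GenLocus Groth.Agent.AmpleLib
open Groth.Agent.PullStalk.Sky Groth.Agent.PullStalk.Exact

set_option autoImplicit false
set_option linter.style.haveILetI false
set_option linter.unusedSectionVars false
set_option synthInstance.maxHeartbeats 200000
set_option maxHeartbeats 800000

noncomputable section

namespace Groth.Agent.GenusZeroPts92

variable {X : Scheme.{u}} (k : Type u) [Field k] [X.Over (Spec (CommRingCat.of k))]
  [IsProper (X ↘ Spec (CommRingCat.of k))] [IsIntegral X] (hdim : topologicalKrullDim X = 1)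

include k in
/-- The regular locus of a scheme locally of finite type over a field is open. -/
theorem isOpen_regular : IsOpen {x : X | IsRegularLocalRing (X.presheaf.stalk x)} := by
  rw [isOpen_iff_mem_nhds]
  intro x hx
  obtain ⟨U, hU, hxU, -⟩ := exists_isAffineOpen_mem_and_subset (x := x) (U := ⊤) trivial
  letI := VarDim.secAlgebra k X U
  haveI : Algebra.FiniteType k Γ(X, U) := VarDim.finiteType_sections k hU
  have key : ∀ y : U, IsRegularLocalRing (X.presheaf.stalk y.1) ↔ hU.primeIdealOf y ∈ EGA4.regLocus Γ(X, U) := by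
    intro y
    letI := TopCat.Presheaf.algebra_section_stalk X.presheaf y
    haveI := hU.isLocalization_stalk y
    let e := (IsLocalization.algEquiv (hU.primeIdealOf y).asIdeal.primeCompl (X.presheaf.stalk y.1)
      (Localization.AtPrime (hU.primeIdealOf y).asIdeal)).toRingEquiv
    exact ⟨fun h => IsRegularLocalRing.of_ringEquiv e, fun (h : IsRegularLocalRing (Localization.AtPrime _)) =>
      IsRegularLocalRing.of_ringEquiv e.symm⟩
  refine Filter.mem_of_superset ((hU.fromSpec.isOpenEmbedding.isOpenMap _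
    (Groth.Agent.S2618.result k Γ(X, U))).mem_nhds ⟨hU.primeIdealOf ⟨x, hxU⟩, (key _).1 hx, hU.fromSpec_primeIdealOf _⟩) ?_
  rintro _ ⟨q, hq, rfl⟩
  have hqU : hU.fromSpec q ∈ U := hU.range_fromSpec.le (Set.mem_range_self q)
  refine (key ⟨_, hqU⟩).2 ?_
  rwa [show hU.primeIdealOf ⟨_, hqU⟩ = q from hU.fromSpec.isOpenEmbedding.injective (hU.fromSpec_primeIdealOf _)]

theorem regular_genericPoint : IsRegularLocalRing (X.presheaf.stalk (genericPoint X)) := by
  letI : Field (X.presheaf.stalk (genericPoint X)) := inferInstanceAs (Field X.functionField)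
  infer_instance

include k hdim in
theorem finite_nonregular : {x : X | ¬ IsRegularLocalRing (X.presheaf.stalk x)}.Finite := by
  haveI := EulerChar.compactSpace k (X := X)
  exact VarDim.finite_of_isClosed k hdim (isOpen_regular k).isClosed_compl (fun h => h regular_genericPoint)

include k hdim in
theorem isEffCartier_of_regular {Q : X} (hc : IsClosed ({Q} : Set X))
    (hr : IsRegularLocalRing (X.presheaf.stalk Q)) : BlowUp.IsEffCartierIdeal (IntMult.ptIdeal Q) := by
  haveI := hr
  haveI : IsDiscreteValuationRing (X.presheaf.stalk Q) :=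
    CurveDVR.isDiscreteValuationRing_of_regular _ (by
      rw [ringKrullDim_stalk_eq_coheight,
        CurveDVR.coheight_eq_one (X ↘ Spec (CommRingCat.of k)) hdim hc]
      rfl)
  exact EulerChar.isEffCartier_ptIdeal k hdim hc inferInstance

include k hdim in
theorem deg_tensor {L N : X.Modules} (hL : PicF.IsInvertible L) (hN : PicF.IsInvertible N) :
    Curv2.deg k X (CohB1.tensorMod L N) 1 = Curv2.deg k X L 1 + Curv2.deg k X N 1 := by
  have h : Curv2.deg k X (CohB1.tensorMod L N) (1 * 1) =
      (1 : ℕ) * Curv2.deg k X N 1 + (1 : ℕ) * Curv2.deg k X L 1 :=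
    EulerChar.deg_tens k (ProjTwist.isFinLocFreeOfRank_one hL) hdim.le (ProjTwist.isFinLocFreeOfRank_one hN)
  refine Eq.trans h ?_
  push_cast
  ring

/-- The degree of a point: `h⁰(O/I)`. -/
abbrev dp (Q : X) : ℤ := (Module.finrank k (Coh.HH X (ClSub.quotMod (IntMult.ptIdeal Q)) 0) : ℤ)

include k hdim in
theorem deg_ideal {Q : X} (hc : IsClosed ({Q} : Set X)) (hr : IsRegularLocalRing (X.presheaf.stalk Q)) :
    ∃ hI : PicF.IsInvertible (ClSub.idealMod (IntMult.ptIdeal Q)),
      Curv2.deg k X (ClSub.idealMod (IntMult.ptIdeal Q)) 1 = - dp k Q := by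
  have hD := isEffCartier_of_regular k hdim hc hr
  have hI := IdealSh.IdealMod.isInvertible_of_isEffCartierIdeal _ hD
  obtain ⟨hL, ⟨e⟩⟩ := AbSch51.InvSection.tensor_dual hI
  let e' := ProjTwist.tensComm _ _ ≪≫ e
  have h1 := EulerChar.deg_inverse_ideal (IntMult.ptIdeal Q) k hdim.le hD hL e'
  have h2 := deg_tensor k hdim hL hI
  rw [EulerChar.deg_iso k e', h1, show Curv2.deg k X (Coh.structureModule X) 1 = 0 by simp [Curv2.deg]] at h2
  exact ⟨hI, by linarith⟩

include k hdim in
theorem dp_pos {Q : X} (hc : IsClosed ({Q} : Set X)) : 0 < dp k Q := by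
  set Z := IntMult.ptIdeal Q
  have hZs : ((Z.support : Set X)) = {Q} := (CohDev.coe_support_ptIdeal Q).trans hc.closure_eq
  have hQs := (TopDimLib.topDim_le_of_subset (EulerChar.support_quotMod_subset Z)).trans
    (EulerChar.topDim_le_zero_of_finite (hZs ▸ Set.finite_singleton Q) fun z hz => by
      rw [hZs, Set.mem_singleton_iff] at hz; subst hz; exact hc)
  have hQ : Coh.IsCoh (ClSub.quotMod Z) := EulerChar.isCoh_quotMod k Z
  by_contra h
  have hz := EulerChar.isZero_of_euler_eq_zero k hQ hQs (by
    rw [EulerChar.euler_eq_finrank_of_support k hQ hQs]; simp only [dp] at h; exact le_antisymm (not_lt.1 h) (Int.natCast_nonneg _))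
  haveI : Subsingleton ((Cyc.closureStructureSheaf Q).presheaf.stalk Q) := by
    refine subsingleton_of_forall_eq 0 fun t => ?_
    obtain ⟨W, hxW, m, rfl⟩ := exists_germM_eq (ClSub.quotMod Z) Q t
    have hm : m = 0 := congrArg (fun φ : ClSub.quotMod Z ⟶ ClSub.quotMod Z => φ.app W m) (hz.eq_of_src (𝟙 _) 0)
    rw [hm]; exact map_zero _
  have h1 := CohDev.length_stalk_oz Q
  rw [Module.length_eq_zero] at h1
  exact zero_ne_one h1

include k hdim in
/-- A section not generating at a regular closed point is a section of `L(-Q)`. -/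
theorem exists_lift_ideal {L : X.Modules} (hL : PicF.IsInvertible L) (s : Coh.structureModule X ⟶ L) (hs : s ≠ 0)
    {Q : X} (hc : IsClosed ({Q} : Set X)) (hQ : Q ∉ CohB1.genLocus L s) :
    ∃ σ : Coh.structureModule X ⟶ CohB1.tensorMod L (ClSub.idealMod (IntMult.ptIdeal Q)), σ ≠ 0 := by
  haveI := EulerChar.isNoetherian k (X := X)
  set Z := IntMult.ptIdeal Q
  have hL1 := ProjTwist.isFinLocFreeOfRank_one hL
  let S := (ShortComplex.mk (ClSub.idealModι Z) (ClSub.toSubscheme Z) (kernel.condition _)).map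
    (DCoh.tensorBi.obj L)
  have hS : S.ShortExact := CohDev.tens_shortExact hL1 (EulerChar.shortExact_ideal Z)
  let s' : Coh.structureModule X ⟶ S.X₂ := s ≫ (ProjTwist.tensOne L).inv
  have hB : PicF.IsInvertible (CohB1.tensorMod L (Coh.structureModule X)) :=
    AmpleLib.isInvertible_tensorMod hL (PicLoc.isInvertible_structureModule X)
  have hQ' : Q ∉ CohB1.genLocus _ s' := by
    rwa [show CohB1.genLocus _ s' = CohB1.genLocus L s from genLocus_comp_iso s (ProjTwist.tensOne L).symm]
  have hsupp : CohB1.support S.X₃ ⊆ {Q} :=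
    (CohDev.support_tens_subset L (ClSub.quotMod Z)).trans
      ((EulerChar.support_quotMod_subset Z).trans ((CohDev.coe_support_ptIdeal Q).trans hc.closure_eq).le)
  have hkill : ∀ r ∈ IsLocalRing.maximalIdeal (X.presheaf.stalk Q), ∀ t : S.X₃.presheaf.stalk Q, r • t = 0 := by
    intro r hr t
    let E := KFlat.StalkTensor.stalkTensorEquiv L (ClSub.quotMod Z) Q
    refine E.injective ?_
    refine (E.map_smul r t).trans (Eq.trans ?_ (map_zero E).symm)
    suffices ∀ w, r • w = (0 : TensorProduct (X.presheaf.stalk Q) (L.presheaf.stalk Q) ((ClSub.quotMod Z).presheaf.stalk Q)) from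
      this _
    intro w
    induction w using TensorProduct.induction_on with
    | zero => exact smul_zero _
    | tmul a b =>
      rw [← TensorProduct.tmul_smul,
        show r • b = 0 from CohDev.smul_stalk_oz Q hr b, TensorProduct.tmul_zero]
    | add a b ha hb => rw [smul_add, ha, hb, add_zero]
  have h0 : s' ≫ S.g = 0 := Omega.Stalks.hom_ext_stalk fun z => LinearMap.ext fun t => by
    refine Eq.trans ?_ (Omega.Stalks.stalkLin_zero z t).symm
    by_cases hz : z = Q
    · subst hz
      rw [CohDev.stalkLin_comp_apply]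
      refine Submodule.smul_induction_on (HilbPolyX.stalk_sec_mem s' hB hQ' t) (fun r hr n _ => ?_) fun p q hp hq => ?_
      · exact ((stalkLin S.g z).map_smul r n).trans (hkill r hr _)
      · exact ((stalkLin S.g z).map_add p q).trans ((congrArg₂ (· + ·) hp hq).trans (add_zero 0))
    · haveI : Subsingleton (S.X₃.presheaf.stalk z) := by
        by_contra hn
        exact hz (hsupp hn)
      exact @Subsingleton.elim _ this _ _
  obtain ⟨σ, hσ⟩ := KernelFork.IsLimit.lift' hS.fIsKernel s' h0
  refine ⟨σ, fun e => hs ?_⟩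
  have h2 : s' = 0 := hσ.symm.trans (by rw [show σ = 0 from e]; exact zero_comp)
  have h3 : s' ≫ (ProjTwist.tensOne L).hom = s := (Category.assoc _ _ _).trans (by rw [Iso.inv_hom_id, Category.comp_id])
  rw [← h3, h2, zero_comp]

variable (h1 : Subsingleton (Coh.HH X (Coh.structureModule X) 1))

include k hdim h1 in
theorem exists_section {L : X.Modules} (hL : PicF.IsInvertible L) (hd : 0 ≤ Curv2.deg k X L 1) :
    ∃ s : Coh.structureModule X ⟶ L, s ≠ 0 := by
  haveI := EulerChar.isNoetherian k (X := X)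
  have hO := VBLib.isCoh_of_ofRank (ProjTwist.isFinLocFreeOfRank_one (PicLoc.isInvertible_structureModule X))
  haveI := EulerChar.finite_HH k _ hO 0
  haveI : Nontrivial (Coh.HH X (Coh.structureModule X) 0) :=
    (Sheaf.H.equiv₀ (Coh.toAb (Coh.structureModule X)) Limits.isTerminalTop).toEquiv.nontrivial_congr.2
      (show Nontrivial Γ(X, ⊤) from inferInstance)
  have hpos : 0 < Module.finrank k (Coh.HH X (Coh.structureModule X) 0) := Module.finrank_pos
  have hle := EulerChar.euler_le_h0 k hdim (VBLib.isCoh_of_ofRank (ProjTwist.isFinLocFreeOfRank_one hL))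
  have hχ := CurveSimple.euler_eq k hdim (Coh.structureModule X)
  rw [Module.finrank_zero_of_subsingleton (M := Coh.HH X (Coh.structureModule X) 1)] at hχ
  simp only [Curv2.deg, Nat.cast_one, one_mul] at hd
  exact CurveSimple.exists_hom_ne_zero (Module.nontrivial_of_finrank_pos (R := k) (by omega))

include k hdim h1 in
theorem exists_gen_at {L : X.Modules} (hL : PicF.IsInvertible L) (s : Coh.structureModule X ⟶ L) (hs : s ≠ 0)
    (x : X) : ∃ t : Coh.structureModule X ⟶ L, x ∈ CohB1.genLocus L t := by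
  by_cases hx : x ∈ CohB1.genLocus L s
  · exact ⟨s, hx⟩
  haveI := EulerChar.isNoetherian k (X := X)
  have hO := PicLoc.isInvertible_structureModule X
  have hOc := VBLib.isCoh_of_ofRank (ProjTwist.isFinLocFreeOfRank_one hO)
  have hLc := VBLib.isCoh_of_ofRank (ProjTwist.isFinLocFreeOfRank_one hL)
  haveI := EulerChar.mono_of_ne_zero hO hL s hs
  have hC : Coh.IsCoh (cokernel s) := CohDev.isCoh_cokernel s hOc.1 hLc
  have hCd := EulerChar.dim_support_le_zero k hdim hC
    (CohDev.not_mem_support_cokernel s (EulerChar.bijective_stalk_generic hO hL s hs).2)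
  have hS : (ShortComplex.mk s (cokernel.π s) (cokernel.condition s)).ShortExact :=
    { exact := ShortComplex.exact_of_g_is_cokernel _ (cokernelIsCokernel s)
      mono_f := inferInstance
      epi_g := inferInstanceAs (Epi (cokernel.π s)) }
  have hxC : x ∈ CohB1.support (cokernel s) := fun hsub => by
    obtain ⟨eL⟩ := EulerChar.stalk_ofRank (ProjTwist.isFinLocFreeOfRank_one hL) x
    haveI : Module.Finite (X.presheaf.stalk x) (L.presheaf.stalk x) := Module.Finite.equiv eL
    have htop : (⊤ : Submodule (X.presheaf.stalk x) (L.presheaf.stalk x)) ≤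
        ⊥ ⊔ IsLocalRing.maximalIdeal (X.presheaf.stalk x) • ⊤ := fun m _ => by
      obtain ⟨-, he, -⟩ := stalk_exact hS x
      obtain ⟨a, rfl⟩ := (he m).1 (@Subsingleton.elim _ hsub _ _)
      exact Submodule.mem_sup_right (HilbPolyX.stalk_sec_mem s hL hx a)
    have h := Submodule.le_of_le_smul_of_le_jacobson_bot Module.Finite.fg_top
      (IsLocalRing.maximalIdeal_le_jacobson _) htop
    have h2 : eL (fun _ => 1) = 0 := h trivial
    exact one_ne_zero (congrFun (eL.injective (h2.trans (map_zero eL).symm)) 0)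
  obtain ⟨t, ht⟩ := EulerChar.exists_genLocus_step k hdim hL hO s (cokernel.π s) (cokernel.condition s) hS hC
    hCd hxC (by rw [Module.finrank_zero_of_subsingleton (M := Coh.HH X (Coh.structureModule X) 1)]; exact Nat.zero_le _)
  exact ⟨t ≫ (ProjTwist.oneTens L).hom, (genLocus_comp_iso t (ProjTwist.oneTens L)).symm ▸ ht⟩

include k in
/-- Over an infinite field, one section generates at a finite set once the sections do. -/
theorem exists_gen_finset [Infinite k] {L : X.Modules} (hL : PicF.IsInvertible L)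
    (h : ∀ x : X, ∃ t : Coh.structureModule X ⟶ L, x ∈ CohB1.genLocus L t) (E : Finset X) :
    ∃ σ : Γ(L, ⊤), ∀ y ∈ E, y ∈ locus σ := by
  classical
  induction E using Finset.induction_on with
  | empty => exact ⟨0, by simp⟩
  | @insert x E hx ih =>
    obtain ⟨σ, hσ⟩ := ih
    obtain ⟨t, ht⟩ := h x
    set τ := sec t ⊤
    have hτ : x ∈ locus τ := by rwa [← genLocus_eq_locus]
    let g : k →+* Γ(X, ⊤) := Coh.toGlobal (X ↘ Spec (CommRingCat.of k))
    have key : ∀ y ∈ insert x E, {c : k | y ∉ locus (σ + g c • τ)}.Subsingleton := by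
      intro y hy
      have hor : y ∈ locus σ ∨ y ∈ locus τ := by
        rcases Finset.mem_insert.1 hy with rfl | hy
        · exact Or.inr hτ
        · exact Or.inl (hσ y hy)
      obtain ⟨U, e, hyU, he⟩ := exists_isGen hL y
      obtain ⟨a, ha, -⟩ := he.exists_eq le_rfl (res L (le_top : U ≤ ⊤) σ)
      obtain ⟨b, hb, -⟩ := he.exists_eq le_rfl (res L (le_top : U ≤ ⊤) τ)
      rw [res_self] at ha hb
      let ρ := (IsLocalRing.residue (X.presheaf.stalk y)).comp (X.presheaf.germ U y hyU).hom
      let ψ : k →+* IsLocalRing.ResidueField (X.presheaf.stalk y) := ρ.comp ((rres (le_top : U ≤ ⊤)).hom.comp g)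
      have hloc : ∀ (s₀ : Γ(L, ⊤)) (f : Γ(X, U)), res L (le_top : U ≤ ⊤) s₀ = f • e → (y ∈ locus s₀ ↔ ρ f ≠ 0) := by
        intro s₀ f hf
        have hr : ρ f ≠ 0 ↔ IsUnit (X.presheaf.germ U y hyU f) := IsLocalRing.residue_ne_zero_iff_isUnit _
        rw [hr, ← X.mem_basicOpen f y hyU, ← AmpleLib.locus_inf (le_top : U ≤ ⊤) he s₀ hf]
        exact ⟨fun h => ⟨h, hyU⟩, fun h => h.1⟩
      intro c₁ hc₁ c₂ hc₂
      have hval : ∀ c : k, y ∉ locus (σ + g c • τ) → ρ a + ψ c * ρ b = 0 := fun c hc => by
        by_contra hne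
        refine hc ((hloc _ (a + rres (le_top : U ≤ ⊤) (g c) * b) ?_).2 ?_)
        · rw [map_add, res_smul, ha, hb, smul_smul, ← add_smul]
        · rw [map_add, map_mul]; exact hne
      have e1 := hval c₁ hc₁
      have e2 := hval c₂ hc₂
      by_cases hb0 : ρ b = 0
      · rw [hb0, mul_zero, add_zero] at e1
        rcases hor with hs | hs
        · exact absurd e1 ((hloc σ a ha).1 hs)
        · exact absurd hb0 ((hloc τ b hb).1 hs)
      · exact ψ.injective (mul_right_cancel₀ hb0 (by linear_combination e1 - e2))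
    obtain ⟨c, hc⟩ := (((insert x E).finite_toSet).biUnion fun y hy => (key y hy).finite).exists_notMem
    refine ⟨σ + g c • τ, fun y hy => ?_⟩
    by_contra hn
    exact hc (Set.mem_biUnion hy hn)

include k hdim h1 in
/-- A positive degree gives a regular point of at most that degree outside any finite set. -/
theorem exists_regular_point [Infinite k] {L : X.Modules} (hL : PicF.IsInvertible L)
    (hd : 0 < Curv2.deg k X L 1) {E : Set X} (hE : E.Finite) :
    ∃ Q : X, Q ∉ E ∧ IsClosed ({Q} : Set X) ∧ IsRegularLocalRing (X.presheaf.stalk Q) ∧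
      dp k Q ≤ Curv2.deg k X L 1 := by
  obtain ⟨s₀, hs₀⟩ := exists_section k hdim h1 hL hd.le
  have hfin := ((hE.union (finite_nonregular k hdim)).insert (genericPoint X))
  obtain ⟨σ, hσ⟩ := exists_gen_finset k hL (exists_gen_at k hdim h1 hL s₀ hs₀) hfin.toFinset
  let s := homOfSec σ
  have hsE : ∀ y ∈ insert (genericPoint X) (E ∪ {x : X | ¬ IsRegularLocalRing (X.presheaf.stalk x)}),
      y ∈ CohB1.genLocus L s := fun y hy => by
    rw [genLocus_homOfSec]; exact hσ y (hfin.mem_toFinset.2 hy)
  have hne : CohB1.genLocus L s ≠ ⊤ := fun htop => by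
    haveI := LiftLib.isIso_of_genLocus_eq_top s htop
    rw [EulerChar.deg_iso k (asIso s).symm] at hd
    simp [Curv2.deg] at hd
  obtain ⟨Q, hQ⟩ : ∃ Q, Q ∉ CohB1.genLocus L s := by
    by_contra! h
    exact hne (top_le_iff.1 fun y _ => h y)
  have hQgen : Q ≠ genericPoint X := fun h => hQ (h ▸ hsE _ (Set.mem_insert _ _))
  have hQc := VarDim.isClosed_singleton_of_ne_genericPoint k hdim hQgen
  have hQr : IsRegularLocalRing (X.presheaf.stalk Q) := by
    by_contra h
    exact hQ (hsE Q (Or.inr (Or.inr h)))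
  have hs : s ≠ 0 := fun h0 => by
    obtain ⟨W, hW, hgW⟩ := (mem_genLocus_iff s _).1 (hsE _ (Set.mem_insert _ _))
    have : sec s W = 0 := by rw [h0]; rfl
    rw [this] at hgW
    have h2 : (1 : Γ(X, W)) • res L (le_refl W) (0 : Γ(L, W)) = (0 : Γ(X, W)) • res L le_rfl (0 : Γ(L, W)) := by simp
    haveI : Nonempty W := ⟨⟨_, hW⟩⟩
    exact one_ne_zero (hgW.injective le_rfl h2)
  obtain ⟨σ', hσ'⟩ := exists_lift_ideal k hdim hL s hs hQc hQ
  obtain ⟨hI, hdI⟩ := deg_ideal k hdim hQc hQr
  have h0 := (CurveSimple.deg_nonneg_of_hom k hdim (AmpleLib.isInvertible_tensorMod hL hI) σ' hσ').1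
  rw [deg_tensor k hdim hL hI, hdI] at h0
  exact ⟨Q, fun h => hQ (hsE Q (Or.inr (Or.inl h))), hQc, hQr, by linarith⟩

include k hdim h1 in
theorem nonempty_iso_of_deg_zero {L : X.Modules} (hL : PicF.IsInvertible L) (hd : Curv2.deg k X L 1 = 0) :
    Nonempty (L ≅ Coh.structureModule X) := by
  obtain ⟨s, hs⟩ := exists_section k hdim h1 hL hd.ge
  exact (CurveSimple.deg_nonneg_of_hom k hdim hL s hs).2 hd

end Groth.Agent.GenusZeroPts92
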